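import Groth.Agent.HenselLib.HullProps
import Groth.Agent.HenselLib.LocalHens
import Groth.Agent.HenselLib.SectionsIdem
import Groth.Agent.Et18.ProperClopen.Apps
import Groth.Agent.VarietyLib.AffineNhd
import Mathlib.AlgebraicGeometry.Fiber
import Mathlib.AlgebraicGeometry.Morphisms.Proper
import Mathlib.AlgebraicGeometry.Morphisms.Flat

/-!
# Idempotents on a proper fibre come from the stalk of the direct image (Stacks 0BUH)
-/

set_option autoImplicit false
set_option backward.isDefEq.respectTransparency false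

universe u

open CategoryTheory CategoryTheory.Limits AlgebraicGeometry IsLocalRing Opposite TopologicalSpace

namespace Groth.Agent.EGA43.IdemFibre

open Groth.Agent

/-- Everything in a pushout of rings lies in every subring containing both images. -/
theorem mem_of_isPushout {A B C D : CommRingCat.{u}} {a : A ⟶ B} {b : A ⟶ C} {c : B ⟶ D} {d : C ⟶ D}
    (h : IsPushout a b c d) (T : Subring D) (hc : ∀ x, c.hom x ∈ T) (hd : ∀ x, d.hom x ∈ T) (z : D) :
    z ∈ T := by
  let c' : B ⟶ CommRingCat.of T := CommRingCat.ofHom (c.hom.codRestrict T hc)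
  let d' : C ⟶ CommRingCat.of T := CommRingCat.ofHom (d.hom.codRestrict T hd)
  have hw : a ≫ c' = b ≫ d' := CommRingCat.hom_ext (RingHom.ext fun x =>
    Subtype.ext (congrArg (fun k : A ⟶ D => k.hom x) h.w))
  let ι : CommRingCat.of T ⟶ D := CommRingCat.ofHom T.subtype
  have hid : h.desc c' d' hw ≫ ι = 𝟙 D := by
    apply h.hom_ext
    · rw [IsPushout.inl_desc_assoc, Category.comp_id]; rfl
    · rw [IsPushout.inr_desc_assoc, Category.comp_id]; rfl
  have hz : ι.hom ((h.desc c' d' hw).hom z) = z := congrArg (fun k : D ⟶ D => k.hom z) hid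
  exact hz ▸ ((h.desc c' d' hw).hom z).2

theorem appLE_eq_of_eq {X Y : Scheme.{u}} {f f' : X ⟶ Y} (h : f = f') {U : Y.Opens} {V : X.Opens}
    (e : V ≤ f ⁻¹ᵁ U) (e' : V ≤ f' ⁻¹ᵁ U) : f.appLE U V e = f'.appLE U V e' := by
  subst h; rfl

theorem appLE_appTop {X Y Z : Scheme.{u}} (f : X ⟶ Y) (g : Y ⟶ Z) (U : Z.Opens)
    (e : (⊤ : Y.Opens) ≤ g ⁻¹ᵁ U) :
    g.appLE U ⊤ e ≫ f.appTop = (f ≫ g).appLE U ⊤ (fun x _ => e (trivial : f x ∈ (⊤ : Y.Opens))) := by
  rw [Scheme.Hom.appTop, Scheme.Hom.app_eq_appLE]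
  exact Scheme.Hom.appLE_comp_appLE f g U ⊤ ⊤ e le_rfl

theorem appLE_top_top {X Y : Scheme.{u}} (f : X ⟶ Y) (e : (⊤ : X.Opens) ≤ f ⁻¹ᵁ ⊤) :
    f.appLE ⊤ ⊤ e = f.appTop := by
  rw [Scheme.Hom.appTop, Scheme.Hom.app_eq_appLE]
  rfl

theorem fromSpecResidueField_appLE {S : Scheme.{u}} (s : S) (V : S.Opens) (hV : s ∈ V)
    (hl : (⊤ : (Spec (S.residueField s)).Opens) ≤ (Spec.map (S.residue s) ≫ S.fromSpecStalk s) ⁻¹ᵁ V) :
    (Spec.map (S.residue s) ≫ S.fromSpecStalk s).appLE V ⊤ hl =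
      S.presheaf.germ V s hV ≫ S.residue s ≫ (Scheme.ΓSpecIso (S.residueField s)).inv := by
  have he : (⊤ : (Spec (S.presheaf.stalk s)).Opens) ≤ S.fromSpecStalk s ⁻¹ᵁ V := fun y _ => by
    have h : S.fromSpecStalk s y ∈ Set.range (S.fromSpecStalk s) := ⟨y, rfl⟩
    rw [Scheme.range_fromSpecStalk] at h
    exact (h : S.fromSpecStalk s y ⤳ s).mem_open V.2 hV
  refine (appLE_appTop (Spec.map (S.residue s)) (S.fromSpecStalk s) V he).symm.trans ?_
  rw [Scheme.Hom.appLE, Scheme.fromSpecStalk_app hV]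
  simp only [Category.assoc]
  rw [← Functor.map_comp_assoc, Scheme.ΓSpecIso_inv_naturality]
  exact congrArg (fun k => S.presheaf.germ V s hV ≫ (Scheme.ΓSpecIso (S.presheaf.stalk s)).inv ≫ k)
    ((congrArg (· ≫ _) ((Spec _).presheaf.map_id _)).trans (Category.id_comp _))

variable {X S : Scheme.{u}} (f : X ⟶ S) (s : S)

/-- The restriction to the fibre of sections over the preimage of a neighbourhood. -/
noncomputable abbrev toFibre (V : S.Opens) (hs : s ∈ V) :
    Γ(X, f ⁻¹ᵁ V) ⟶ Γ(f.fiber s, ⊤) :=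
  (f.fiberι s).appLE (f ⁻¹ᵁ V) ⊤ fun y _ => by
    have h : f.fiberι s y ∈ Set.range (f.fiberι s) := ⟨y, rfl⟩
    rw [f.range_fiberι s] at h
    show f (f.fiberι s y) ∈ V
    rw [h]; exact hs

theorem toFibre_res {V W : S.Opens} (hV : s ∈ V) (hW : s ∈ W) (h : W ≤ V) (t : Γ(X, f ⁻¹ᵁ V)) :
    (toFibre f s W hW).hom ((X.presheaf.map (homOfLE (f.preimage_mono h)).op).hom t) =
      (toFibre f s V hV).hom t :=
  congrArg (fun k : Γ(X, f ⁻¹ᵁ V) ⟶ Γ(f.fiber s, ⊤) => k.hom t) (Scheme.Hom.map_appLE _ _ _)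

/-- The sections of the fibre which extend over the preimage of a neighbourhood. -/
noncomputable def extendable : Subring Γ(f.fiber s, ⊤) where
  carrier := {x | ∃ (V : S.Opens) (hs : s ∈ V) (t : _), (toFibre f s V hs).hom t = x}
  one_mem' := ⟨⊤, trivial, 1, map_one _⟩
  zero_mem' := ⟨⊤, trivial, 0, map_zero _⟩
  neg_mem' := fun {x} ⟨V, hV, t, ht⟩ => ⟨V, hV, -t, by rw [map_neg, ht]⟩
  add_mem' := fun {x y} ⟨V, hV, t, ht⟩ ⟨W, hW, v, hv⟩ =>
    ⟨V ⊓ W, ⟨hV, hW⟩, (X.presheaf.map (homOfLE (f.preimage_mono inf_le_left)).op).hom t +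
      (X.presheaf.map (homOfLE (f.preimage_mono inf_le_right)).op).hom v,
      by rw [map_add, toFibre_res f s (W := V ⊓ W) hV ⟨hV, hW⟩ inf_le_left, toFibre_res f s (W := V ⊓ W) hW ⟨hV, hW⟩ inf_le_right, ht, hv]⟩
  mul_mem' := fun {x y} ⟨V, hV, t, ht⟩ ⟨W, hW, v, hv⟩ =>
    ⟨V ⊓ W, ⟨hV, hW⟩, (X.presheaf.map (homOfLE (f.preimage_mono inf_le_left)).op).hom t *
      (X.presheaf.map (homOfLE (f.preimage_mono inf_le_right)).op).hom v,
      by rw [map_mul, toFibre_res f s (W := V ⊓ W) hV ⟨hV, hW⟩ inf_le_left, toFibre_res f s (W := V ⊓ W) hW ⟨hV, hW⟩ inf_le_right, ht, hv]⟩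

/-- Sections coming from the residue field extend. -/
theorem residue_mem_extendable (c : Γ(Spec (S.residueField s), ⊤)) :
    (f.fiberToSpecResidueField s).appTop.hom c ∈ extendable f s := by
  obtain ⟨a, ha⟩ := IsLocalRing.residue_surjective ((Scheme.ΓSpecIso (S.residueField s)).hom.hom c)
  obtain ⟨V, hV, c', rfl⟩ := S.presheaf.exists_germ_eq a
  refine ⟨V, hV, (f.app V).hom c', ?_⟩
  have hl : (⊤ : (Spec (S.residueField s)).Opens) ≤ S.fromSpecResidueField s ⁻¹ᵁ V := fun y _ => by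
    show S.fromSpecResidueField s y ∈ V
    have h : S.fromSpecResidueField s y ∈ Set.range (S.fromSpecResidueField s) := ⟨y, rfl⟩
    rw [Scheme.range_fromSpecResidueField] at h
    rw [h]; exact hV
  have h1 : f.app V ≫ toFibre f s V hV =
      (S.fromSpecResidueField s).appLE V ⊤ hl ≫ (f.fiberToSpecResidueField s).appTop := by
    have h : f.fiberι s ≫ f = f.fiberToSpecResidueField s ≫ S.fromSpecResidueField s := pullback.condition
    simp only [toFibre, Scheme.Hom.app_eq_appLE, Scheme.Hom.appTop]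
    rw [Scheme.Hom.appLE_comp_appLE, Scheme.Hom.appLE_comp_appLE]
    simp only [h]
    rfl
  have h2 : (S.fromSpecResidueField s).appLE V ⊤ hl =
      S.presheaf.germ V s hV ≫ S.residue s ≫ (Scheme.ΓSpecIso (S.residueField s)).inv :=
    fromSpecResidueField_appLE s V hV hl
  have h3 : (S.fromSpecResidueField s).appLE V ⊤ hl c' = c := by
    refine (Scheme.ΓSpecIso (S.residueField s)).commRingCatIsoToRingEquiv.injective ?_
    rw [h2]
    simp only [CommRingCat.comp_apply]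
    exact (Iso.inv_hom_id_apply (Scheme.ΓSpecIso (S.residueField s)) _).trans ha
  exact (congrArg (fun k : Γ(S, V) ⟶ Γ(f.fiber s, ⊤) => k.hom c') h1).trans
    (congrArg (f.fiberToSpecResidueField s).appTop.hom h3)

theorem exists_flat_henselian_nbhd :
    ∃ (H : Type u) (_ : CommRing H) (_ : HenselianLocalRing H) (g : Spec (CommRingCat.of H) ⟶ S)
      (φ : H →+* S.residueField s), Flat g ∧ Function.Surjective φ ∧
      Spec.map (CommRingCat.ofHom φ) ≫ g = S.fromSpecResidueField s ∧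
      ∀ y, g y ⤳ s := by
  let R : Type u := S.presheaf.stalk s
  let H : Type u := HenselLib.LocalH R
  let a := Spec.map (CommRingCat.ofHom (algebraMap R H))
  let g : Spec (CommRingCat.of H) ⟶ S := a ≫ S.fromSpecStalk s
  haveI : Flat a := (HasRingHomProperty.Spec_iff (P := @Flat)).2
    (RingHom.flat_algebraMap_iff.2 inferInstance)
  haveI : Flat (S.fromSpecStalk s) := VarietyLib.flat_fromSpecStalk' s
  let φ : H →+* S.residueField s := (HenselLib.hullPt R (R ⧸ maximalIdeal R)).toRingHom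
  have hφ : φ.comp (algebraMap R H) = residue R :=
    RingHom.ext fun r => (HenselLib.hullPt R (R ⧸ maximalIdeal R)).commutes r
  refine ⟨H, inferInstance, inferInstance, g, φ, inferInstance, fun x => ?_, ?_, fun y => ?_⟩
  · obtain ⟨r, hr⟩ := residue_surjective (R := R) x
    exact ⟨algebraMap R H r, (DFunLike.congr_fun hφ r).trans hr⟩
  · show Spec.map _ ≫ a ≫ _ = Spec.map (S.residue s) ≫ _
    rw [← Category.assoc, ← Spec.map_comp, ← CommRingCat.ofHom_comp, hφ]
    rfl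
  · have h : g y ∈ Set.range (S.fromSpecStalk s) := ⟨a y, (Scheme.Hom.comp_apply a _ y).symm⟩
    rwa [Scheme.range_fromSpecStalk] at h

theorem mem_extendable_of_isIdempotentElem [IsProper f] (e : Γ(f.fiber s, ⊤)) (he : IsIdempotentElem e) :
    e ∈ extendable f s := by
  obtain ⟨H, _, _, g, φ, hg, hφ, hφg, hspec⟩ := exists_flat_henselian_nbhd s
  obtain ⟨_, ⟨V₀, hV₀, rfl⟩, hsV₀, -⟩ :=
    S.isBasis_affineOpens.exists_subset_of_mem_open (Set.mem_univ s) isOpen_univ
  let q := Spec.map (CommRingCat.ofHom φ)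
  haveI hq : IsClosedImmersion q := IsClosedImmersion.spec_of_surjective _ hφ
  let m : f.fiber s ⟶ pullback f g := pullback.lift (f.fiberι s) (f.fiberToSpecResidueField s ≫ q)
    (by rw [Category.assoc, hφg]; exact pullback.condition)
  have hm1 : m ≫ pullback.fst f g = f.fiberι s := pullback.lift_fst _ _ _
  have hm2 : m ≫ pullback.snd f g = f.fiberToSpecResidueField s ≫ q := pullback.lift_snd _ _ _
  have sq : IsPullback m (f.fiberToSpecResidueField s) (pullback.snd f g) q := by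
    refine IsPullback.of_right ?_ hm2 (IsPullback.of_hasPullback f g).flip.flip
    rw [hm1, hφg]
    exact IsPullback.of_hasPullback _ _
  haveI : IsClosedImmersion m := MorphismProperty.of_isPullback sq.flip hq
  have hrange : Set.range m =
      pullback.snd f g ⁻¹' PrimeSpectrum.zeroLocus (maximalIdeal H : Set H) := by
    have hqr : Set.range q = PrimeSpectrum.zeroLocus (maximalIdeal H : Set H) := by
      have h := range_comap_of_surjective _ φ hφ
      rwa [IsLocalRing.eq_maximalIdeal (RingHom.ker_isMaximal_of_surjective φ hφ)] at h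
    rw [← hqr, ← Scheme.Pullback.range_fst (f := pullback.snd f g) (g := q), ← sq.isoPullback_hom_fst]
    ext x
    constructor
    · rintro ⟨y, rfl⟩
      exact ⟨sq.isoPullback.hom y, (Scheme.Hom.comp_apply _ _ y).symm⟩
    · rintro ⟨y, rfl⟩
      obtain ⟨z, rfl⟩ := sq.isoPullback.hom.surjective y
      exact ⟨z, Scheme.Hom.comp_apply _ _ z⟩
  obtain ⟨D, hD, hDe⟩ := Et18.ProperClopen.exists_preimage_eq_of_isClopen (maximalIdeal H)
    (pullback.snd f g) (fun y => m y) m.isClosedEmbedding hrange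
    (HenselLib.SectionsIdem.isClopen_basicOpen he)
  obtain ⟨t, ht, htD⟩ := HenselLib.SectionsIdem.exists_idempotent hD
  have hte : m.appTop.hom t = e := by
    refine HenselLib.SectionsIdem.eq_of_basicOpen_eq (ht.map m.appTop.hom) he (Opens.ext ?_)
    rw [← Scheme.preimage_basicOpen_top]
    exact (congrArg (fun T => (fun y => m y) ⁻¹' T) htD).trans hDe
  have hgV : ∀ y, g y ∈ V₀ := fun y => (hspec y).mem_open V₀.2 hsV₀
  have hUY : (⊤ : (pullback f g).Opens) = pullback.fst f g ⁻¹ᵁ (f ⁻¹ᵁ V₀) ⊓ pullback.snd f g ⁻¹ᵁ ⊤ := by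
    refine (eq_top_iff.2 fun y _ => ⟨?_, trivial⟩).symm
    show f (pullback.fst f g y) ∈ V₀
    rw [← Scheme.Hom.comp_apply, pullback.condition, Scheme.Hom.comp_apply]
    exact hgV _
  have hpo := (isIso_pushoutSection_iff (IsPullback.of_hasPullback f g) (US := V₀) (UT := ⊤)
    (UX := f ⁻¹ᵁ V₀) (fun y _ => hgV y) le_rfl hUY).1
    (isIso_pushoutSection_of_isQuasiSeparated_of_flat_right (IsPullback.of_hasPullback f g)
      (fun y _ => hgV y) le_rfl hUY hV₀ (isAffineOpen_top _) (f.isCompact_preimage hV₀.isCompact)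
      (f.isQuasiSeparated_preimage hV₀.isQuasiSeparated))
  have key := mem_of_isPushout hpo ((extendable f s).comap m.appTop.hom) (fun x => ?_) (fun x => ?_) t
  · rw [Subring.mem_comap, hte] at key
    exact key
  · refine ⟨V₀, hsV₀, x, ?_⟩
    exact congrArg (fun k : Γ(X, f ⁻¹ᵁ V₀) ⟶ Γ(f.fiber s, ⊤) => k.hom x)
      ((appLE_appTop m (pullback.fst f g) (f ⁻¹ᵁ V₀) _).trans (appLE_eq_of_eq hm1 _ _)).symm
  · have h : (pullback.snd f g).appLE ⊤ ⊤ (fun _ _ => trivial) ≫ m.appTop =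
        q.appTop ≫ (f.fiberToSpecResidueField s).appTop := by
      rw [appLE_top_top, ← Scheme.Hom.comp_appTop, ← Scheme.Hom.comp_appTop, hm2]
    rw [Subring.mem_comap]
    refine (congrArg (fun k : Γ(Spec (CommRingCat.of H), ⊤) ⟶ Γ(f.fiber s, ⊤) => k.hom x) h) ▸ ?_
    exact residue_mem_extendable f s (q.appTop.hom x)

theorem exists_section_of_isIdempotentElem [IsProper f] (e : Γ(f.fiber s, ⊤)) (he : IsIdempotentElem e) :
    ∃ (V : S.Opens) (_ : s ∈ V) (t : Γ(X, f ⁻¹ᵁ V)),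
      ((f.fiberι s).app (f ⁻¹ᵁ V)).hom t =
        ((f.fiber s).presheaf.map (homOfLE (le_top : (f.fiberι s) ⁻¹ᵁ (f ⁻¹ᵁ V) ≤ ⊤)).op).hom e := by
  obtain ⟨V, hV, t, rfl⟩ := mem_extendable_of_isIdempotentElem f s e he
  exact ⟨V, hV, t, congrArg (fun k : Γ(X, f ⁻¹ᵁ V) ⟶ Γ(f.fiber s, f.fiberι s ⁻¹ᵁ (f ⁻¹ᵁ V)) => k.hom t)
    ((f.fiberι s).app_eq_appLE.trans (Scheme.Hom.appLE_map _ _ _).symm)⟩

end Groth.Agent.EGA43.IdemFibre
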